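import Groth.Agent.RibbonExistLib.Data
import Groth.Agent.RibbonClassLib.Basic
import Groth.Agent.RelSpecLib.SymData
import Groth.Agent.OmegaExistLib.Basic
import Groth.Agent.GrpOmega.Basic
import Groth.Agent.EtAlgEasy.OmegaSeq
import Groth.Agent.FormalLib.ProperSupport

/-! The cotangent sequence of the thickening attached to an extension. -/

set_option autoImplicit false
set_option backward.isDefEq.respectTransparency false
set_option backward.defeqAttrib.useBackward true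
set_option linter.style.haveILetI false
set_option linter.unusedVariables false
set_option maxHeartbeats 1000000

universe u

open CategoryTheory CategoryTheory.Limits AlgebraicGeometry TopologicalSpace Opposite TrivSqZeroExt
open Groth.Agent.LocHilbGlueLib Groth.Agent.OmegaUnivLib
open Groth.Agent.PullbackMod (pullMap)

noncomputable section

namespace Groth.Agent.RibbonExistLib

open Groth.Agent.SplitRibLib (Ext0 res)

namespace ExtData

variable {k : Type u} [Field k] {D : Scheme.{u}} {pD : D ⟶ Spec (CommRingCat.of k)} (G : ExtData pD)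

/-- The functions on a chart, in the trivial extension. -/
def κE (U : D.AffineZariskiSite) : Γ(G.C, G.fam.W U) →+* Ext0 G.E U.1 :=
  (G.Sub U.1).subtype.comp (G.fam.κ U).hom

theorem κE_mem (U : D.AffineZariskiSite) (x : Γ(G.C, G.fam.W U)) : G.κE U x ∈ G.Sub U.1 := (G.fam.κ U x).2

theorem κE_injective (U : D.AffineZariskiSite) : Function.Injective (G.κE U) :=
  fun a b h => (G.fam.κ_bijective U).1 (Subtype.ext h)

theorem exists_κE (U : D.AffineZariskiSite) (y : G.Sub U.1) : ∃ x, G.κE U x = y.1 := by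
  obtain ⟨x, hx⟩ := (G.fam.κ_bijective U).2 y
  exact ⟨x, congrArg Subtype.val hx⟩

theorem κE_res {U V : D.AffineZariskiSite} (h : V ⟶ U) (x : Γ(G.C, G.fam.W U)) :
    G.κE V (G.C.presheaf.map (homOfLE (G.fam.W_mono h)).op x) =
      res G.E (Scheme.AffineZariskiSite.toOpens_mono h.le) (G.κE U x) :=
  congrArg Subtype.val (ConcreteCategory.congr_hom (G.fam.κ_nat h) x)

theorem fst_κE (U : D.AffineZariskiSite) (x : Γ(G.C, G.fam.W U)) :
    (G.κE U x).fst = G.i.appLE (G.fam.W U) U.1 (G.fam.preimage_W U).ge x :=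
  (ConcreteCategory.congr_hom (G.fam.i_κ U) x).symm

theorem W_le {U : D.AffineZariskiSite} {W : G.C.Opens} (h : U.1 ≤ G.i ⁻¹ᵁ W) : G.fam.W U ≤ W := fun y hy => by
  obtain ⟨x, rfl⟩ := G.fam.surjective_i y
  exact h ((G.fam.preimage_W U).le hy)

theorem exists_site {O : D.Opens} {p : D} (hp : p ∈ O) : ∃ U : D.AffineZariskiSite, p ∈ U.1 ∧ U.1 ≤ O := by
  obtain ⟨_, ⟨V, hV, rfl⟩, hpV, hle⟩ := D.isBasis_affineOpens.exists_subset_of_mem_open hp O.2
  exact ⟨⟨V, hV⟩, hpV, hle⟩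

/-- The value of the tautological derivation. -/
def IsVal (W : G.C.Opens) (x : Γ(G.C, W)) (ω : Γ(G.E, G.i ⁻¹ᵁ W)) : Prop :=
  ∀ (U : D.AffineZariskiSite) (h : U.1 ≤ G.i ⁻¹ᵁ W),
    G.E.presheaf.map (homOfLE h).op ω = (G.κE U (G.C.presheaf.map (homOfLE (G.W_le h)).op x)).snd

theorem isVal_unique {W : G.C.Opens} {x : Γ(G.C, W)} {ω ω' : Γ(G.E, G.i ⁻¹ᵁ W)} (h : G.IsVal W x ω)
    (h' : G.IsVal W x ω') : ω = ω' :=
  TopCat.Sheaf.eq_of_locally_eq' (C := Ab.{u}) ⟨G.E.presheaf, G.E.isSheaf⟩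
    (fun U : {U : D.AffineZariskiSite // U.1 ≤ G.i ⁻¹ᵁ W} => U.1.1) (G.i ⁻¹ᵁ W) (fun U => homOfLE U.2)
    (fun p hp => by
      obtain ⟨U, hpU, hU⟩ := exists_site hp
      exact Opens.mem_iSup.2 ⟨⟨U, hU⟩, hpU⟩) _ _ fun U => (h U.1 U.2).trans (h' U.1 U.2).symm

theorem snd_res {U V : D.Opens} (h : V ≤ U) (z : Ext0 G.E U) :
    (res G.E h z).snd = G.E.presheaf.map (homOfLE h).op z.snd := by
  simp [res]

theorem existsUnique_val (W : G.C.Opens) (x : Γ(G.C, W)) : ∃ ω, G.IsVal W x ω := by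
  let I := {U : D.AffineZariskiSite // U.1 ≤ G.i ⁻¹ᵁ W}
  let v : ∀ U : I, Γ(G.E, U.1.1) := fun U => (G.κE U.1 (G.C.presheaf.map (homOfLE (G.W_le U.2)).op x)).snd
  have hnat : ∀ (U V : I) (h : V.1 ⟶ U.1), G.E.presheaf.map (homOfLE (Scheme.AffineZariskiSite.toOpens_mono h.le)).op (v U) = v V := by
    intro U V h
    show G.E.presheaf.map _ (G.κE U.1 _).snd = (G.κE V.1 _).snd
    rw [← snd_res, ← G.κE_res h, ConormalLib.res_res]
  have hcov : G.i ⁻¹ᵁ W ≤ ⨆ U : I, U.1.1 := fun p hp => by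
    obtain ⟨U, hpU, hU⟩ := exists_site hp
    exact Opens.mem_iSup.2 ⟨⟨U, hU⟩, hpU⟩
  obtain ⟨ω, hω, -⟩ := TopCat.Sheaf.existsUnique_gluing' (C := Ab.{u}) ⟨G.E.presheaf, G.E.isSheaf⟩
    (fun U : I => U.1.1) (G.i ⁻¹ᵁ W) (fun U => homOfLE U.2) hcov v (fun U V => by
      refine TopCat.Sheaf.eq_of_locally_eq' (C := Ab.{u}) ⟨G.E.presheaf, G.E.isSheaf⟩
        (fun O : {O : D.AffineZariskiSite // Nonempty (O ⟶ U.1) ∧ Nonempty (O ⟶ V.1)} => O.1.1) (U.1.1 ⊓ V.1.1)
        (fun O => homOfLE (le_inf (Scheme.AffineZariskiSite.toOpens_mono O.2.1.some.le)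
          (Scheme.AffineZariskiSite.toOpens_mono O.2.2.some.le))) (fun p hp => ?_) _ _ fun O => ?_
      · obtain ⟨O, f₁, f₂, hpO⟩ := DefGlueLib.Fam.exists_common hp.1 hp.2
        exact Opens.mem_iSup.2 ⟨⟨O, ⟨f₁⟩, ⟨f₂⟩⟩, hpO⟩
      · have hO : O.1.1 ≤ G.i ⁻¹ᵁ W := (Scheme.AffineZariskiSite.toOpens_mono O.2.1.some.le).trans U.2
        refine (ConormalLib.res_mod _ _ (v U)).trans ((hnat U ⟨O.1, hO⟩ O.2.1.some).trans ?_)
        exact ((ConormalLib.res_mod _ _ (v V)).trans (hnat V ⟨O.1, hO⟩ O.2.2.some)).symm)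
  exact ⟨ω, fun U h => hω ⟨U, h⟩⟩

theorem val_add {W : G.C.Opens} {x y : Γ(G.C, W)} {ω η} (h : G.IsVal W x ω) (h' : G.IsVal W y η) :
    G.IsVal W (x + y) (ω + η) := fun U hU => by
  rw [map_add, map_add, map_add, snd_add, h U hU, h' U hU]

/-- The tautological derivation. -/
def dTil (W : G.C.Opens) : Γ(G.C, W) →+ Γ(G.E, G.i ⁻¹ᵁ W) :=
  AddMonoidHom.mk' (fun x => (G.existsUnique_val W x).choose) fun x y =>
    G.isVal_unique (G.existsUnique_val W (x + y)).choose_spec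
      (G.val_add (G.existsUnique_val W x).choose_spec (G.existsUnique_val W y).choose_spec)

theorem dTil_spec (W : G.C.Opens) (x : Γ(G.C, W)) : G.IsVal W x (G.dTil W x) := (G.existsUnique_val W x).choose_spec

theorem fst_κE_res {W : G.C.Opens} (U : D.AffineZariskiSite) (h : U.1 ≤ G.i ⁻¹ᵁ W) (x : Γ(G.C, W)) :
    (G.κE U (G.C.presheaf.map (homOfLE (G.W_le h)).op x)).fst = D.presheaf.map (homOfLE h).op (G.i.app W x) := by
  rw [fst_κE, ← CommRingCat.comp_apply, Scheme.Hom.map_appLE]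
  rfl

/-- The tautological derivation, as a derivation. -/
def D₁ : OmegaSh.Der G.pC ((Scheme.Modules.pushforward G.i).obj G.E) :=
  OmegaUnivLib.mkDer (fun W => G.dTil W)
    (fun W a b => by
      refine G.isVal_unique (G.dTil_spec W (a * b)) fun U hU => ?_
      show G.E.presheaf.map (homOfLE hU).op ((G.i.app W a) • (G.dTil W b) + (G.i.app W b) • (G.dTil W a)) = _
      rw [map_add, Scheme.Modules.map_smul, Scheme.Modules.map_smul, G.dTil_spec W a U hU, G.dTil_spec W b U hU,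
        ← fst_κE_res G U hU, ← fst_κE_res G U hU, map_mul, map_mul, snd_mul, op_smul_eq_smul])
    (fun {W W'} j x => by
      refine G.isVal_unique (G.dTil_spec W _) fun U hU => ?_
      refine (ConormalLib.res_mod (G.i.preimage_mono j.le) hU (G.dTil W' x)).trans ?_
      rw [G.dTil_spec W' x U (hU.trans (G.i.preimage_mono j.le))]
      refine congrArg (fun t => (G.κE U t).snd) ?_
      exact (ConormalLib.res_res j.le (G.W_le hU) x).symm)
    (fun V a => by
      refine G.isVal_unique (G.dTil_spec _ _) fun U hU => ?_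
      show G.E.presheaf.map (homOfLE hU).op 0 = _
      rw [map_zero]
      by_cases hV : V = ⊤
      · subst hV
        obtain ⟨b, rfl⟩ : ∃ b, (Scheme.ΓSpecIso (CommRingCat.of k)).inv b = a :=
          (ConcreteCategory.bijective_of_isIso (Scheme.ΓSpecIso (CommRingCat.of k)).inv).2 a
        have h1 : (Scheme.ΓSpecIso (CommRingCat.of k)).inv ≫ G.pC.app ⊤ ≫
            G.C.presheaf.map (homOfLE (G.W_le hU)).op ≫ G.fam.κ U = G.str U.1 := by
          have key : ∀ (g : G.fam.diag.obj U ⟶ Spec (CommRingCat.of k)) (_ : g = Spec.map (G.str U.1)) (e : ⊤ ≤ g ⁻¹ᵁ ⊤),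
              (Scheme.ΓSpecIso (CommRingCat.of k)).inv ≫ g.appLE ⊤ ⊤ e ≫ (Scheme.ΓSpecIso _).hom = G.str U.1 := by
            rintro _ rfl e
            have h := SqFam.specMap_appLE (G.str U.1) e
            exact (congrArg (fun t => (Scheme.ΓSpecIso (CommRingCat.of k)).inv ≫ t ≫ (Scheme.ΓSpecIso _).hom) h).trans
              (by simp)
          rw [← key _ (G.ι_pC U) le_top]
          simp only [SqFam.κ, Category.assoc, Scheme.Hom.app_eq_appLE, Scheme.Hom.map_appLE_assoc,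
            Scheme.Hom.appLE_map_assoc, Scheme.Hom.appLE_comp_appLE_assoc]
          rfl
        have h2 := congrArg Subtype.val (ConcreteCategory.congr_hom h1 b)
        refine Eq.trans ?_ (congrArg TrivSqZeroExt.snd h2).symm
        exact (snd_inl _ _).symm
      · have hbot : (V : Set (Spec (CommRingCat.of k))) = ∅ := by
          refine Set.eq_empty_iff_forall_notMem.2 fun z hz => hV (eq_top_iff.2 fun w _ => ?_)
          rwa [Subsingleton.elim w z]
        have hU' : U.1 = ⊥ := eq_bot_iff.2 fun p hp => by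
          have h : G.pC (G.i p) ∈ (V : Set (Spec (CommRingCat.of k))) := hU hp
          rw [hbot] at h
          exact h.elim
        exact TopCat.Sheaf.eq_of_locally_eq' (C := Ab.{u}) ⟨G.E.presheaf, G.E.isSheaf⟩
          (fun _ : PEmpty.{u+1} => (⊥ : D.Opens)) U.1 (fun e => e.elim) (by rw [hU']; exact bot_le) _ _
          (fun e => e.elim))

theorem dTil_W (U : D.AffineZariskiSite) (x : Γ(G.C, G.fam.W U)) :
    G.E.presheaf.map (homOfLE (G.fam.preimage_W U).ge).op (G.dTil _ x) = (G.κE U x).snd := by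
  rw [G.dTil_spec _ x U (G.fam.preimage_W U).ge]
  refine congrArg (fun t => (G.κE U t).snd) ?_
  exact ConcreteCategory.congr_hom (G.C.presheaf.map_id _) x

/-- The conormal sheaf. -/
abbrev con : D.Modules := Omega.conormal G.i

theorem exists_idealSect (U : D.AffineZariskiSite) (l : Γ(G.L, U.1)) :
    ∃ z : Γ(ClSub.idealMod G.i.ker, G.fam.W U), G.κE U (OmegaSh.idealSect G.i.ker _ z) = (G.inL U.1 l).1 := by
  obtain ⟨x, hx⟩ := (G.fam.κ_bijective U).2 (G.inL U.1 l)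
  obtain ⟨z, hz⟩ := ConormalLib.exists_idealSect_eq G.i _ x ((G.fam.mem_ker_iff U x).2 (by
    rw [hx]; show (G.inL U.1 l).1.fst = 0; exact fst_inr _ _))
  exact ⟨z, by rw [hz]; exact congrArg Subtype.val hx⟩

/-- An element of the ideal from a section of `L`. -/
def lift (U : D.AffineZariskiSite) (l : Γ(G.L, U.1)) : Γ(ClSub.idealMod G.i.ker, G.fam.W U) :=
  (G.exists_idealSect U l).choose

theorem κE_lift (U : D.AffineZariskiSite) (l : Γ(G.L, U.1)) :
    G.κE U (OmegaSh.idealSect G.i.ker _ (G.lift U l)) = (G.inL U.1 l).1 :=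
  (G.exists_idealSect U l).choose_spec

theorem lift_eq (U : D.AffineZariskiSite) (l : Γ(G.L, U.1)) (z : Γ(ClSub.idealMod G.i.ker, G.fam.W U))
    (h : G.κE U (OmegaSh.idealSect G.i.ker _ z) = (G.inL U.1 l).1) : G.lift U l = z :=
  OmegaAffLib.idealSect_injective _ _ (G.κE_injective U ((G.κE_lift U l).trans h.symm))

theorem inL_add (U : D.Opens) (a b : Γ(G.L, U)) : G.inL U (a + b) = G.inL U a + G.inL U b :=
  Subtype.ext (by
    show inr (G.φL.app U (a + b)) = inr (G.φL.app U a) + inr (G.φL.app U b)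
    rw [map_add, inr_add])

/-- Sections of `L` as conormal sections. -/
def toConAff (U : D.AffineZariskiSite) : Γ(G.L, U.1) →+ Γ(G.con, U.1) where
  toFun l := pullMap G.i _ (W := G.fam.W U) (G.fam.preimage_W U).ge (G.lift U l)
  map_zero' := by
    rw [G.lift_eq U 0 0 (by rw [map_zero, map_zero, inL_zero]; rfl), map_zero]
  map_add' a b := by
    rw [G.lift_eq U (a + b) (G.lift U a + G.lift U b) (by
      rw [map_add, map_add, κE_lift, κE_lift, inL_add]; rfl), map_add]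

theorem toConAff_smul (U : D.AffineZariskiSite) (r : Γ(D, U.1)) (l : Γ(G.L, U.1)) :
    G.toConAff U (r • l) = r • G.toConAff U l := by
  obtain ⟨y, hy⟩ := G.exists_lift U.2 r
  obtain ⟨x, hx⟩ := G.exists_κE U y
  show pullMap G.i _ _ (G.lift U (r • l)) = r • pullMap G.i _ _ (G.lift U l)
  rw [G.lift_eq U (r • l) (x • G.lift U l) (by
      rw [OmegaAffLib.idealSect_smul, map_mul, κE_lift, hx, ← hy, ← G.mul_inL]; rfl)]
  refine (PullbackMod.pullMap_smul G.i _ _ _ _).trans ?_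
  rw [← fst_κE, hx, hy]

theorem toConAff_res {U V : D.AffineZariskiSite} (h : V ⟶ U) (l : Γ(G.L, U.1)) :
    G.toConAff V (G.L.presheaf.map (homOfLE (Scheme.AffineZariskiSite.toOpens_mono h.le)).op l) =
      G.con.presheaf.map (homOfLE (Scheme.AffineZariskiSite.toOpens_mono h.le)).op (G.toConAff U l) := by
  show pullMap G.i _ _ (G.lift V _) = G.con.presheaf.map _ (pullMap G.i _ _ (G.lift U l))
  rw [G.lift_eq V _ ((ClSub.idealMod G.i.ker).presheaf.map (homOfLE (G.fam.W_mono h)).op (G.lift U l)) (by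
    rw [ConormalLib.idealSect_res, κE_res G h, κE_lift, ← resS_coe, resS_inL])]
  exact (PullbackMod.pullMap_res G.i _ _ (G.fam.W_mono h) _ (G.fam.preimage_W V).ge _).symm

theorem ker_mul (U : D.AffineZariskiSite) {a b : Γ(G.C, G.fam.W U)} (ha : G.i.app (G.fam.W U) a = 0)
    (hb : G.i.app (G.fam.W U) b = 0) : a * b = 0 := by
  refine (G.fam.κ_bijective U).1 ?_
  rw [map_mul, map_zero]
  exact G.fam.sq _ _ _ ((G.fam.mem_ker_iff U a).1 ha) ((G.fam.mem_ker_iff U b).1 hb)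

theorem toConAff_bijective (U : D.AffineZariskiSite) : Function.Bijective (G.toConAff U) := by
  have hW := G.fam.isAffineOpen_W U
  obtain ⟨hpre, hs⟩ := ConormalLib.chart_of_le G.i hW (fun x _ => (coborder_eq_univ_iff.mpr G.i.isClosedEmbedding.isClosed_range).ge (Set.mem_univ x))
  have key : ∀ (W' : D.Opens) (e : W' ≤ G.i ⁻¹ᵁ G.fam.W U), W' = G.i ⁻¹ᵁ G.fam.W U →
      Function.Surjective (pullMap G.i (ClSub.idealMod G.i.ker) e) ∧
      ∀ z, pullMap G.i (ClSub.idealMod G.i.ker) e z = 0 ↔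
        OmegaSh.idealSect G.i.ker _ z ∈ RingHom.ker (G.i.app (G.fam.W U)).hom * RingHom.ker (G.i.app (G.fam.W U)).hom := by
    rintro _ e rfl
    exact ConormalLib.cls_surjective_and_eq_zero_iff G.i hW hpre hs
  obtain ⟨hsurj, hzero⟩ := key U.1 (G.fam.preimage_W U).ge (G.fam.preimage_W U).symm
  refine ⟨(injective_iff_map_eq_zero _).2 fun l hl => G.inL_injective _ ?_, fun y => ?_⟩
  · have h0 : OmegaSh.idealSect G.i.ker _ (G.lift U l) = 0 :=
      (Submodule.mem_bot Γ(G.C, G.fam.W U)).1 ((Ideal.mul_le.2 fun a ha b hb => (Submodule.mem_bot _).2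
        (G.ker_mul U (RingHom.mem_ker.1 ha) (RingHom.mem_ker.1 hb))) ((hzero _).1 hl))
    have := G.κE_lift U l
    rw [h0, map_zero] at this
    rw [inL_zero]
    exact (Subtype.ext this).symm
  · obtain ⟨z, rfl⟩ := hsurj y
    obtain ⟨l, hl⟩ := G.exists_inL (G.fam.κ U (OmegaSh.idealSect G.i.ker _ z))
      ((G.fam.mem_ker_iff U _).1 (ConormalLib.app_idealSect G.i _ z))
    refine ⟨l, ?_⟩
    show pullMap G.i _ _ (G.lift U l) = _
    rw [G.lift_eq U l z (congrArg Subtype.val hl).symm]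

/-- `L` to the conormal sheaf, on presheaves. -/
def toConPre : G.L.presheaf ⟶ G.con.presheaf :=
  Functor.IsCoverDense.restrictHomEquivHom (G := Scheme.AffineZariskiSite.toOpensFunctor D)
    (K := Opens.grothendieckTopology D) (ℱ := G.L.presheaf)
    (ℱ' := (⟨G.con.presheaf, G.con.isSheaf⟩ : TopCat.Sheaf Ab.{u} D.carrier))
    { app := fun U => AddCommGrpCat.ofHom (G.toConAff U.unop)
      naturality := fun U V i => AddCommGrpCat.hom_ext (AddMonoidHom.ext fun m => G.toConAff_res i.unop m) }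

theorem toConPre_app (U : D.AffineZariskiSite) (m : Γ(G.L, U.1)) :
    G.toConPre.app (op U.1) m = G.toConAff U m :=
  ConcreteCategory.congr_hom (NatTrans.congr_app ((Functor.IsCoverDense.restrictHomEquivHom
    (G := Scheme.AffineZariskiSite.toOpensFunctor D) (K := Opens.grothendieckTopology D) (ℱ := G.L.presheaf)
    (ℱ' := (⟨G.con.presheaf, G.con.isSheaf⟩ : TopCat.Sheaf Ab.{u} D.carrier))).symm_apply_apply _)
      (op U)) m

theorem toConPre_smul (W : D.Opens) (r : Γ(D, W)) (x : Γ(G.L, W)) :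
    (G.toConPre.app (op W) (r • x) : Γ(G.con, W)) = r • (G.toConPre.app (op W) x : Γ(G.con, W)) := by
  let F' : TopCat.Sheaf Ab.{u} D.carrier := ⟨G.con.presheaf, G.con.isSheaf⟩
  refine TopCat.Sheaf.eq_of_locally_eq' F'
    (fun a : {U : D.Opens // IsAffineOpen U ∧ U ≤ W} => a.1) W (fun a => homOfLE a.2.2) (fun y hy => ?_) _ _
    fun a => ?_
  · obtain ⟨_, ⟨V, hV, rfl⟩, hyV, hVW⟩ := D.isBasis_affineOpens.exists_subset_of_mem_open hy W.2
    exact Opens.mem_iSup.2 ⟨⟨V, hV, hVW⟩, hyV⟩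
  · have hn : ∀ z : Γ(G.L, W), G.con.presheaf.map (homOfLE a.2.2).op (G.toConPre.app (op W) z) =
        G.toConPre.app (op a.1) (G.L.presheaf.map (homOfLE a.2.2).op z) := fun z =>
      (ConcreteCategory.congr_hom (G.toConPre.naturality (homOfLE a.2.2).op) z).symm
    show G.con.presheaf.map (homOfLE a.2.2).op (G.toConPre.app (op W) (r • x)) =
      G.con.presheaf.map (homOfLE a.2.2).op (r • (G.toConPre.app (op W) x : Γ(G.con, W)))
    rw [hn, G.L.map_smul (homOfLE a.2.2), Scheme.Modules.map_smul G.con (homOfLE a.2.2), hn,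
      toConPre_app G ⟨a.1, a.2.1⟩, toConPre_app G ⟨a.1, a.2.1⟩]
    exact G.toConAff_smul ⟨a.1, a.2.1⟩ _ _

/-- `L` to the conormal sheaf. -/
def toCon : G.L ⟶ G.con := ⟨PresheafOfModules.homMk G.toConPre fun W r x => G.toConPre_smul W.unop r x⟩

theorem toCon_app (U : D.Opens) (hU : IsAffineOpen U) (m : Γ(G.L, U)) :
    G.toCon.app U m = G.toConAff ⟨U, hU⟩ m := G.toConPre_app ⟨U, hU⟩ m

instance : IsIso G.toCon := FormalLib.isIso_of_affine _ fun U hU => by
  have : (G.toCon.app U : Γ(G.L, U) → Γ(G.con, U)) = G.toConAff ⟨U, hU⟩ := funext fun m => G.toCon_app U hU m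
  rw [this]
  exact G.toConAff_bijective ⟨U, hU⟩

/-- The conormal sheaf is `L`. -/
def θ : Omega.conormal G.i ≅ G.L := (asIso G.toCon).symm

theorem exists_seq (hd : OmegaSh.IsUniversal G.d) :
    ∃ (Ω₁ : G.C.Modules) (d₁ : OmegaSh.Der G.pC Ω₁) (_ : OmegaSh.IsUniversal d₁)
      (φ : Omega.conormal G.i ⟶ (Scheme.Modules.pullback G.i).obj Ω₁) (_ : OmegaSh.IsConormalDiff G.i d₁ φ)
      (c : (Scheme.Modules.pullback G.i).obj Ω₁ ⟶ G.Ω) (_ : OmegaSh.IsDiffCompat G.i d₁ G.d c)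
      (hw : φ ≫ c = 0) (_ : (ShortComplex.mk φ c hw).ShortExact)
      (Ψ : (Scheme.Modules.pullback G.i).obj Ω₁ ⟶ G.E), φ ≫ Ψ = G.θ.hom ≫ G.φL ∧ Ψ ≫ G.c = c := by
  obtain ⟨Ω₁, d₁, hd₁⟩ := OmegaExistLib.exists_universal G.pC
  obtain ⟨φ, hφ⟩ := GrpOmega.exists_conormalDiff G.i d₁
  obtain ⟨α, hα, -⟩ := hd₁ _ G.D₁
  let adj := Scheme.Modules.pullbackPushforwardAdjunction G.i
  let Ψ := (adj.homEquiv _ _).symm α
  have hΨ : ∀ (W : G.C.Opens) (x : Γ(G.C, W)),
      Ψ.app (G.i ⁻¹ᵁ W) (OmegaSh.pullSect G.i Ω₁ W (d₁.app W x)) = G.dTil W x := fun W x => by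
    have h1 : ((adj.homEquiv _ _) Ψ).app W (d₁.app W x) = α.app W (d₁.app W x) := by
      rw [Equiv.apply_symm_apply]
    rw [Adjunction.homEquiv_unit] at h1
    have h2 : α.app W (d₁.app W x) = G.D₁.app W x := by rw [← hα]; rfl
    exact h1.trans h2
  have hc : OmegaSh.IsDiffCompat G.i d₁ G.d (Ψ ≫ G.c) := fun W x => by
    show G.c.app _ (Ψ.app _ _) = _
    rw [hΨ]
    refine TopCat.Sheaf.eq_of_locally_eq' (C := Ab.{u}) ⟨G.Ω.presheaf, G.Ω.isSheaf⟩
      (fun U : {U : D.AffineZariskiSite // U.1 ≤ G.i ⁻¹ᵁ W} => U.1.1) (G.i ⁻¹ᵁ W) (fun U => homOfLE U.2)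
      (fun p hp => by
        obtain ⟨U, hpU, hU⟩ := exists_site hp
        exact Opens.mem_iSup.2 ⟨⟨U, hU⟩, hpU⟩) _ _ fun U => ?_
    show G.Ω.presheaf.map (homOfLE U.2).op (G.c.app _ (G.dTil W x)) = G.Ω.presheaf.map (homOfLE U.2).op (G.d.app _ (G.i.app W x))
    rw [← hom_natural, G.dTil_spec W x U.1 U.2, ← app_res, ← fst_κE_res G U.1 U.2]
    exact G.κE_mem U.1 _
  have hφΨ : G.toCon ≫ φ ≫ Ψ = G.φL := by
    refine RelSpecLib.hom_ext_affine _ _ fun U hU l => ?_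
    show Ψ.app U (φ.app U (G.toCon.app U l)) = _
    rw [toCon_app G U hU]
    show Ψ.app U (φ.app U (G.con.presheaf.map (homOfLE (G.fam.preimage_W ⟨U, hU⟩).ge).op
      (OmegaSh.conormalSect G.i _ (G.lift ⟨U, hU⟩ l)))) = _
    rw [hom_natural, hφ, hom_natural, hΨ, dTil_W, κE_lift]
    exact snd_inr _ _
  have hfac : φ ≫ Ψ = G.θ.hom ≫ G.φL := by
    rw [← hφΨ]
    show _ = inv G.toCon ≫ G.toCon ≫ φ ≫ Ψ
    rw [IsIso.inv_hom_id_assoc]
  haveI : Mono φ := by
    haveI := G.hS.mono_f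
    haveI : Mono (φ ≫ Ψ) := by rw [hfac]; infer_instance
    exact mono_of_mono φ Ψ
  have key : ∀ (p : D ⟶ Spec (CommRingCat.of k)) (_ : G.i ≫ G.pC = p) (d : OmegaSh.Der p G.Ω),
      OmegaSh.IsUniversal d → OmegaSh.IsDiffCompat G.i d₁ d (Ψ ≫ G.c) →
      ∃ hw : φ ≫ Ψ ≫ G.c = 0, (ShortComplex.mk φ (Ψ ≫ G.c) hw).ShortExact := by
    rintro _ rfl d hd' hc'
    obtain ⟨w, hepi, hex⟩ := EtAlgEasy.OmegaSeq.exact_immersion G.i G.pC hd₁ hd' (Ψ ≫ G.c) hc' φ hφ
    exact ⟨w, { exact := hex, mono_f := ‹_›, epi_g := hepi }⟩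
  obtain ⟨hw, hS⟩ := key pD G.i_pC G.d hd hc
  exact ⟨Ω₁, d₁, hd₁, φ, hφ, Ψ ≫ G.c, hc, hw, hS, Ψ, hfac, rfl⟩

end ExtData

end Groth.Agent.RibbonExistLib
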