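import Groth.Agent.RibbonExistLib.Glue
import Groth.Agent.SplitRibLib.Data
import Groth.Agent.QCohLib.Exact
import Groth.Agent.OmegaUnivLib.Aff
import Groth.Agent.RibbonExt.Basic

/-! The rings of the thickening attached to an extension of the differentials. -/

set_option autoImplicit false
set_option backward.isDefEq.respectTransparency false
set_option backward.isDefEq.respectTransparency.types false
set_option linter.style.haveILetI false
set_option linter.unusedVariables false
set_option maxHeartbeats 1000000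

universe u

open CategoryTheory CategoryTheory.Limits AlgebraicGeometry TopologicalSpace Opposite TrivSqZeroExt
open Groth.Agent.LocHilbGlueLib Groth.Agent.OmegaUnivLib

noncomputable section

namespace Groth.Agent.RibbonExistLib

open Groth.Agent.SplitRibLib (Ext0 res)
open DefGlueLib (oSite oMap)

variable {k : Type u} [Field k] {D : Scheme.{u}} (pD : D ⟶ Spec (CommRingCat.of k))

/-- An extension of a sheaf of differentials. -/
structure ExtData : Type (u + 1) where
  L : D.Modules
  E : D.Modules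
  Ω : D.Modules
  d : OmegaSh.Der pD Ω
  φL : L ⟶ E
  c : E ⟶ Ω
  w : φL ≫ c = 0
  hS : (ShortComplex.mk φL c w).ShortExact
  hL : Coh.IsQCoh L
  hΩ : Coh.IsQCoh Ω

namespace ExtData

variable {pD} (G : ExtData pD)

/-- The ring over an open. -/
def Sub (U : D.Opens) : Subring (Ext0 G.E U) where
  carrier := {x | G.c.app U x.snd = G.d.app U x.fst}
  mul_mem' {x y} hx hy := by
    show G.c.app U (x * y).snd = G.d.app U (x * y).fst
    rw [fst_mul, snd_mul, op_smul_eq_smul, map_add, Scheme.Modules.Hom.app_smul, Scheme.Modules.Hom.app_smul,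
      app_mul, show G.c.app U x.snd = _ from hx, show G.c.app U y.snd = _ from hy]
  one_mem' := by
    show G.c.app U (1 : Ext0 G.E U).snd = G.d.app U (1 : Ext0 G.E U).fst
    rw [snd_one, fst_one, map_zero, app_one]
  add_mem' {x y} hx hy := by
    show G.c.app U (x + y).snd = G.d.app U (x + y).fst
    rw [snd_add, fst_add, map_add, map_add, show G.c.app U x.snd = _ from hx, show G.c.app U y.snd = _ from hy]
  zero_mem' := by
    show G.c.app U (0 : Ext0 G.E U).snd = G.d.app U (0 : Ext0 G.E U).fst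
    rw [snd_zero, fst_zero, map_zero, map_zero]
  neg_mem' {x} hx := by
    show G.c.app U (-x).snd = G.d.app U (-x).fst
    rw [snd_neg, fst_neg, map_neg, map_neg, show G.c.app U x.snd = _ from hx]

theorem res_mem {U V : D.Opens} (h : V ≤ U) {x : Ext0 G.E U} (hx : x ∈ G.Sub U) : res G.E h x ∈ G.Sub V := by
  show G.c.app V (res G.E h x).snd = G.d.app V (res G.E h x).fst
  rw [SplitRibLib.fst_res, show (res G.E h x).snd = G.E.presheaf.map (homOfLE h).op x.snd by simp [res],
    app_res, ← show G.c.app U x.snd = _ from hx, hom_natural]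

/-- Restriction. -/
def resS {U V : D.Opens} (h : V ≤ U) : G.Sub U →+* G.Sub V :=
  ((res G.E h).comp (G.Sub U).subtype).codRestrict _ fun x => G.res_mem h x.2

theorem resS_coe {U V : D.Opens} (h : V ≤ U) (x : G.Sub U) : ((G.resS h x : G.Sub V) : Ext0 G.E V) = res G.E h x.1 := rfl

/-- The rings. -/
def R : D.AffineZariskiSiteᵒᵖ ⥤ CommRingCat.{u} where
  obj U := CommRingCat.of (G.Sub U.unop.1)
  map {U V} i := CommRingCat.ofHom (G.resS (Scheme.AffineZariskiSite.toOpens_mono i.unop.le))
  map_id U := CommRingCat.hom_ext (RingHom.ext fun x => Subtype.ext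
    (RingHom.congr_fun (SplitRibLib.res_self G.E _) x.1))
  map_comp {U V W} i j := CommRingCat.hom_ext (RingHom.ext fun x => Subtype.ext
    (RingHom.congr_fun (SplitRibLib.res_comp G.E (Scheme.AffineZariskiSite.toOpens_mono i.unop.le)
      (Scheme.AffineZariskiSite.toOpens_mono j.unop.le)).symm x.1))

/-- The reduction. -/
def fstS (U : D.Opens) : G.Sub U →+* Γ(D, U) :=
  ({ toFun := TrivSqZeroExt.fst
     map_one' := fst_one
     map_mul' := fst_mul
     map_zero' := fst_zero
     map_add' := fst_add } : Ext0 G.E U →+* Γ(D, U)).comp (G.Sub U).subtype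

theorem isQCoh_E : Coh.IsQCoh G.E := QCohLib.isQCoh_X₂ G.hS G.hL G.hΩ

theorem exists_lift {U : D.Opens} (hU : IsAffineOpen U) (a : Γ(D, U)) : ∃ x : G.Sub U, x.1.fst = a := by
  obtain ⟨ω, hω⟩ := QCohLib.app_surjective G.hS G.hL hU (G.d.app U a)
  refine ⟨⟨inl a + inr ω, ?_⟩, ?_⟩
  · show G.c.app U (inl a + inr ω).snd = G.d.app U (inl a + inr ω).fst
    rw [snd_add, fst_add, snd_inl, fst_inl, snd_inr, fst_inr, zero_add, add_zero]
    exact hω
  · show (inl a + inr ω).fst = a
    rw [fst_add, fst_inl, fst_inr, add_zero]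

/-- A section of `L` in the ring. -/
def inL (U : D.Opens) (l : Γ(G.L, U)) : G.Sub U :=
  ⟨inr (G.φL.app U l), by
    show G.c.app U (inr (G.φL.app U l)).snd = G.d.app U (inr (G.φL.app U l)).fst
    rw [snd_inr, fst_inr, map_zero]
    exact congr($(G.w).app U l)⟩

theorem exists_inL {U : D.Opens} (x : G.Sub U) (hx : x.1.fst = 0) : ∃ l, G.inL U l = x := by
  have h0 : G.c.app U x.1.snd = 0 := by rw [show G.c.app U x.1.snd = _ from x.2, hx, map_zero]
  haveI := G.hS.mono_f
  obtain ⟨l, hl⟩ := RibbonExt.exists_app_eq G.hS.exact U x.1.snd h0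
  refine ⟨l, Subtype.ext (TrivSqZeroExt.ext ?_ ?_)⟩
  · show (inr (G.φL.app U l)).fst = _
    rw [fst_inr, hx]
  · show (inr (G.φL.app U l)).snd = _
    rw [snd_inr]
    exact hl

theorem mul_inL {U : D.Opens} (x : G.Sub U) (l : Γ(G.L, U)) : x * G.inL U l = G.inL U (x.1.fst • l) := by
  refine Subtype.ext (TrivSqZeroExt.ext ?_ ?_)
  · show (x.1 * inr (G.φL.app U l)).fst = (inr (G.φL.app U (x.1.fst • l))).fst
    simp
  · show (x.1 * inr (G.φL.app U l)).snd = (inr (G.φL.app U (x.1.fst • l))).snd
    rw [snd_mul, fst_inr, snd_inr, snd_inr, Scheme.Modules.Hom.app_smul, op_smul_eq_smul, zero_smul, add_zero]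

theorem inL_zero (U : D.Opens) : G.inL U 0 = 0 := Subtype.ext (by show inr _ = _; rw [map_zero, inr_zero]; rfl)

theorem inL_injective (U : D.Opens) : Function.Injective (G.inL U) := fun a b h => by
  haveI := G.hS.mono_f
  refine RibbonExt.app_injective G.φL U ?_
  simpa [inL] using congrArg (fun x : G.Sub U => x.1.snd) h

theorem resS_inL {U V : D.Opens} (h : V ≤ U) (l : Γ(G.L, U)) :
    G.resS h (G.inL U l) = G.inL V (G.L.presheaf.map (homOfLE h).op l) := by
  refine Subtype.ext ?_
  rw [resS_coe]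
  show res G.E h (inr (G.φL.app U l)) = inr _
  rw [SplitRibLib.res_inr, hom_natural]

theorem isLocalization_resS {U : D.Opens} (hU : IsAffineOpen U) (f : Γ(D, U)) (r : G.Sub U) (hr : r.1.fst = f) :
    letI := (G.resS (D.basicOpen_le f)).toAlgebra
    IsLocalization.Away r (G.Sub (D.basicOpen f)) := by
  letI := (G.resS (D.basicOpen_le f)).toAlgebra
  letI : Algebra Γ(D, U) Γ(D, D.basicOpen f) := (D.presheaf.map (homOfLE (D.basicOpen_le f)).op).hom.toAlgebra
  haveI : IsLocalization.Away f Γ(D, D.basicOpen f) := hU.isLocalization_basicOpen f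
  haveI := G.hL
  have hL := QCohLib.locAt G.L hU
  have hres : ∀ x : G.Sub U, (G.resS (D.basicOpen_le f) x).1.fst = D.presheaf.map (homOfLE (D.basicOpen_le f)).op x.1.fst :=
    fun x => by rw [resS_coe, SplitRibLib.fst_res]
  have hfp : ∀ (V : D.Opens) (x : G.Sub V) (n : ℕ), (x ^ n).1.fst = x.1.fst ^ n := fun V x n => map_pow (G.fstS V) x n
  refine (isLocalization_iff _ _).2 ⟨?_, ?_, ?_⟩
  · rintro ⟨_, n, rfl⟩
    rw [map_pow]
    refine IsUnit.pow n ?_
    have hu : IsUnit (D.presheaf.map (homOfLE (D.basicOpen_le f)).op f) := RingedSpace.isUnit_res_basicOpen _ f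
    obtain ⟨v, hv⟩ := hu.exists_right_inv
    obtain ⟨y, hy⟩ := G.exists_lift (hU.basicOpen f) v
    set s := G.resS (D.basicOpen_le f) r with hs
    obtain ⟨l, hl⟩ := G.exists_inL (s * y - 1) (by
      show ((s * y - 1 : G.Sub (D.basicOpen f)) : Ext0 G.E (D.basicOpen f)).fst = 0
      simp only [AddSubgroupClass.coe_sub, Subring.coe_mul, Subring.coe_one, fst_sub, fst_mul, fst_one, hs, hres, hr, hy, hv,
        sub_self])
    have hsq : G.inL _ l * G.inL _ l = 0 := by
      rw [mul_inL, show (G.inL _ l).1.fst = 0 from fst_inr _ _, zero_smul, inL_zero]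
    refine IsUnit.of_mul_eq_one (b := y * (1 - G.inL _ l)) ?_
    show s * _ = 1
    rw [hl] at hsq
    rw [hl]
    linear_combination -hsq
  · intro z
    obtain ⟨⟨a, _, n, rfl⟩, ha⟩ := IsLocalization.surj (Submonoid.powers f) z.1.fst
    change z.1.fst * D.presheaf.map (homOfLE (D.basicOpen_le f)).op (f ^ n) = D.presheaf.map (homOfLE (D.basicOpen_le f)).op a at ha
    obtain ⟨x, hx⟩ := G.exists_lift hU a
    obtain ⟨l, hl⟩ := G.exists_inL (z * G.resS (D.basicOpen_le f) (r ^ n) - G.resS (D.basicOpen_le f) x) (by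
      show ((z * G.resS (D.basicOpen_le f) (r ^ n) - G.resS (D.basicOpen_le f) x : G.Sub (D.basicOpen f)) : Ext0 G.E (D.basicOpen f)).fst = 0
      simp only [AddSubgroupClass.coe_sub, Subring.coe_mul, fst_sub, fst_mul, hres, hfp, hr, hx, sub_eq_zero]
      exact ha)
    obtain ⟨m, l', hl'⟩ := hL.extend f l
    rw [CohBase.sc_apply, map_pow] at hl'
    refine ⟨⟨x * r ^ m + G.inL U l', ⟨_, n + m, rfl⟩⟩, ?_⟩
    show z * G.resS (D.basicOpen_le f) (r ^ (n + m)) = G.resS (D.basicOpen_le f) (x * r ^ m + G.inL U l')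
    rw [map_add (G.resS (D.basicOpen_le f)), resS_inL, hl',
      show D.presheaf.map (homOfLE (D.basicOpen_le f)).op f ^ m = (G.resS (D.basicOpen_le f) (r ^ m)).1.fst from by
        rw [hres, hfp, hr, map_pow],
      ← mul_inL, hl, map_mul, pow_add, map_mul]
    ring
  · intro x y h
    change G.resS (D.basicOpen_le f) x = G.resS (D.basicOpen_le f) y at h
    have h1 : D.presheaf.map (homOfLE (D.basicOpen_le f)).op x.1.fst = D.presheaf.map (homOfLE (D.basicOpen_le f)).op y.1.fst := by
      rw [← hres, ← hres, h]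
    obtain ⟨⟨_, n, rfl⟩, hn⟩ := IsLocalization.exists_of_eq (M := Submonoid.powers f) (S := Γ(D, D.basicOpen f)) h1
    obtain ⟨l, hl⟩ := G.exists_inL (r ^ n * x - r ^ n * y) (by
      show ((r ^ n * x - r ^ n * y : G.Sub U) : Ext0 G.E U).fst = 0
      simp only [AddSubgroupClass.coe_sub, Subring.coe_mul, fst_sub, fst_mul, hfp, hr, sub_eq_zero]
      exact hn)
    have h2 : G.L.presheaf.map (homOfLE (D.basicOpen_le f)).op l = 0 := by
      refine G.inL_injective _ ?_
      rw [← resS_inL, hl, inL_zero, map_sub, map_mul, map_mul, h, sub_self]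
    obtain ⟨j, hj⟩ := hL.kill f l h2
    rw [CohBase.sc_apply, show (homOfLE (le_refl U)).op = 𝟙 (op U) from Subsingleton.elim _ _, D.presheaf.map_id] at hj
    change (f ^ j) • l = 0 at hj
    refine ⟨⟨_, n + j, rfl⟩, ?_⟩
    show r ^ (n + j) * x = r ^ (n + j) * y
    have h3 : r ^ j * (r ^ n * x - r ^ n * y) = 0 := by
      rw [← hl, mul_inL, hfp, hr, hj, inL_zero]
    rw [← sub_eq_zero, ← h3, pow_add]
    ring

/-- The family. -/
def fam : SqFam D where
  R := G.R
  π :=
    { app := fun U => CommRingCat.ofHom (G.fstS U.unop.1)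
      naturality := fun U V i => CommRingCat.hom_ext (RingHom.ext fun x =>
        SplitRibLib.fst_res G.E (Scheme.AffineZariskiSite.toOpens_mono i.unop.le) x.1) }
  π_surj U b := G.exists_lift U.unop.2 b
  sq U a b ha hb := by
    obtain ⟨l, rfl⟩ := G.exists_inL a ha
    rw [mul_comm, mul_inL, show b.1.fst = 0 from hb, zero_smul, inL_zero]
  loc {U V} h := by
    obtain ⟨f, hf⟩ := h.le
    obtain ⟨r, hr⟩ := G.exists_lift U.2 f
    obtain ⟨V, hV⟩ := V
    change D.basicOpen f = V at hf
    subst hf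
    exact ⟨r, G.isLocalization_resS U.2 f r hr⟩

/-- The thickening. -/
abbrev C : Scheme.{u} := G.fam.total

/-- The inclusion. -/
abbrev i : D ⟶ G.C := G.fam.i

theorem algR_mem (U : D.Opens) (a : k) : inl (algR pD U a) ∈ G.Sub U := by
  show G.c.app U (inl (algR pD U a)).snd = G.d.app U (inl (algR pD U a)).fst
  rw [snd_inl, fst_inl, map_zero]
  exact (app_appLE G.d ⊤ U le_top _).symm

/-- The structure maps. -/
def str (U : D.Opens) : CommRingCat.of k ⟶ CommRingCat.of (G.Sub U) :=
  CommRingCat.ofHom (((inlHom Γ(D, U) Γ(G.E, U)).comp (algR pD U).hom).codRestrict _ fun a => G.algR_mem U a)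

theorem str_res {U V : D.AffineZariskiSite} (h : V ⟶ U) : G.str U.1 ≫ G.R.map h.op = G.str V.1 := by
  refine CommRingCat.hom_ext (RingHom.ext fun a => Subtype.ext ?_)
  show res G.E (Scheme.AffineZariskiSite.toOpens_mono h.le) (inl (algR pD U.1 a)) = inl (algR pD V.1 a)
  rw [SplitRibLib.res_inl]
  congr 1
  exact ConcreteCategory.congr_hom
    (show algR pD U.1 ≫ D.presheaf.map (homOfLE (Scheme.AffineZariskiSite.toOpens_mono h.le)).op = algR pD V.1 by
      simp [algR, Scheme.Hom.appLE_map]) a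

/-- The structure map. -/
def pC : G.C ⟶ Spec (CommRingCat.of k) :=
  colimit.desc G.fam.diag
    { pt := Spec (CommRingCat.of k)
      ι :=
        { app := fun U => Spec.map (G.str U.1)
          naturality := fun V U h => by
            show Spec.map (G.R.map h.op) ≫ Spec.map (G.str U.1) = Spec.map (G.str V.1) ≫ 𝟙 _
            rw [Category.comp_id, ← Spec.map_comp, G.str_res h] } }

theorem ι_pC (U : D.AffineZariskiSite) : G.fam.ι U ≫ G.pC = Spec.map (G.str U.1) := colimit.ι_desc _ _

theorem i_pC : G.i ≫ G.pC = pD := by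
  refine SqFam.hom_ext_fs (X := D) fun U => ?_
  rw [reassoc_of% G.fam.fs_i U, ι_pC, ← DefGlueLib.specMap_algR]
  show Spec.map _ ≫ Spec.map _ = _
  rw [← Spec.map_comp]
  rfl

end ExtData

end Groth.Agent.RibbonExistLib
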