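import Groth.Agent.DefGlueLib.Glue

/-! Square-zero thickenings given by rings on affine opens. -/

set_option autoImplicit false
set_option backward.isDefEq.respectTransparency false
set_option backward.isDefEq.respectTransparency.types false
set_option linter.style.haveILetI false
set_option maxHeartbeats 1000000

universe u

open CategoryTheory CategoryTheory.Limits AlgebraicGeometry TopologicalSpace Opposite

noncomputable section

namespace Groth.Agent.RibbonExistLib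

open DefGlueLib (oSite oMap)
open DefGlueLib.Fam (fs range_fs fromSpec_nat exists_common)

/-- Rings on the affine opens with square-zero reductions. -/
structure SqFam (X : Scheme.{u}) : Type (u + 1) where
  R : X.AffineZariskiSiteᵒᵖ ⥤ CommRingCat.{u}
  π : R ⟶ oSite X
  π_surj : ∀ U, Function.Surjective (π.app U).hom
  sq : ∀ U (a b : R.obj U), (π.app U).hom a = 0 → (π.app U).hom b = 0 → a * b = 0
  loc : ∀ {U V : X.AffineZariskiSite} (h : V ⟶ U), ∃ r : R.obj (op U),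
    letI := (R.map h.op).hom.toAlgebra; IsLocalization.Away r (R.obj (op V))

namespace SqFam

variable {X : Scheme.{u}} (F : SqFam X)

theorem π_nat {U V : X.AffineZariskiSite} (h : V ⟶ U) :
    F.R.map h.op ≫ F.π.app (op V) = F.π.app (op U) ≫ oMap h :=
  F.π.naturality h.op

/-- The diagram of spectra. -/
abbrev diag : X.AffineZariskiSite ⥤ Scheme.{u} := F.R.rightOp ⋙ Scheme.Spec

instance isOpenImmersion_diag {U V : X.AffineZariskiSite} (h : V ⟶ U) : IsOpenImmersion (F.diag.map h) := by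
  obtain ⟨r, hr⟩ := F.loc h
  letI := (F.R.map h.op).hom.toAlgebra
  exact IsOpenImmersion.of_isLocalization (S := F.R.obj (op V)) r

/-- The reduction in one chart. -/
def incl (U : X.AffineZariskiSite) : Spec Γ(X, U.toOpens) ⟶ F.diag.obj U := Spec.map (F.π.app (op U))

instance isClosedImmersion_incl (U : X.AffineZariskiSite) : IsClosedImmersion (F.incl U) :=
  IsClosedImmersion.spec_of_surjective _ (F.π_surj (op U))

theorem incl_bijective (U : X.AffineZariskiSite) : Function.Bijective (F.incl U) := by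
  refine ⟨(PrimeSpectrum.comap_injective_of_surjective _ (F.π_surj (op U))), fun P => ?_⟩
  have hle : RingHom.ker (F.π.app (op U)).hom ≤ P.asIdeal := fun a ha =>
    (P.2.mem_or_mem ((F.sq (op U) a a ha ha).symm ▸ P.asIdeal.zero_mem)).elim id id
  haveI := Ideal.map_isPrime_of_surjective (F.π_surj (op U)) hle
  refine ⟨⟨P.asIdeal.map (F.π.app (op U)).hom, inferInstance⟩, PrimeSpectrum.ext ?_⟩
  show Ideal.comap (F.π.app (op U)).hom (Ideal.map (F.π.app (op U)).hom P.asIdeal) = P.asIdeal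
  rw [Ideal.comap_map_of_surjective' _ (F.π_surj (op U))]
  exact sup_eq_left.mpr hle

theorem incl_nat {U V : X.AffineZariskiSite} (h : V ⟶ U) :
    Spec.map (oMap h) ≫ F.incl U = F.incl V ≫ F.diag.map h := by
  show _ = Spec.map _ ≫ Spec.map _
  rw [incl, ← Spec.map_comp, ← Spec.map_comp]
  exact congrArg Spec.map (F.π_nat h).symm

theorem exists_map_eq {U₁ U₂ : X.AffineZariskiSite} {W : X.AffineZariskiSite} (h₁ : W ⟶ U₁) (h₂ : W ⟶ U₂)
    {z₁ : Spec Γ(X, U₁.toOpens)} {z₂ : Spec Γ(X, U₂.toOpens)} (e : fs U₁ z₁ = fs U₂ z₂)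
    (hp : fs U₁ z₁ ∈ W.toOpens) :
    ∃ w, F.diag.map h₁ w = F.incl U₁ z₁ ∧ F.diag.map h₂ w = F.incl U₂ z₂ := by
  obtain ⟨z, hz⟩ : ∃ z, fs W z = fs U₁ z₁ := by
    rw [← Set.mem_range, range_fs]
    exact hp
  refine ⟨F.incl W z, ?_, ?_⟩
  · rw [← Scheme.Hom.comp_apply, ← incl_nat, Scheme.Hom.comp_apply]
    congr 1
    apply (fs U₁).isOpenEmbedding.injective
    rw [← Scheme.Hom.comp_apply, fromSpec_nat, hz]
  · rw [← Scheme.Hom.comp_apply, ← incl_nat, Scheme.Hom.comp_apply]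
    congr 1
    apply (fs U₂).isOpenEmbedding.injective
    rw [← Scheme.Hom.comp_apply, fromSpec_nat, hz, e]

instance locDir : (F.diag ⋙ Scheme.forget).IsLocallyDirected where
  cond {U₁ U₂ U} h₁ h₂ w₁ w₂ e := by
    obtain ⟨z₁, rfl⟩ := (F.incl_bijective U₁).2 w₁
    obtain ⟨z₂, rfl⟩ := (F.incl_bijective U₂).2 w₂
    have e' : F.diag.map h₁ (F.incl U₁ z₁) = F.diag.map h₂ (F.incl U₂ z₂) := e
    rw [← Scheme.Hom.comp_apply, ← Scheme.Hom.comp_apply, ← incl_nat, ← incl_nat, Scheme.Hom.comp_apply,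
      Scheme.Hom.comp_apply] at e'
    have e'' := congrArg (fs U) ((F.incl_bijective U).1 e')
    rw [← Scheme.Hom.comp_apply, ← Scheme.Hom.comp_apply, fromSpec_nat, fromSpec_nat] at e''
    have hm : ∀ (V : X.AffineZariskiSite) z, fs V z ∈ V.toOpens := fun V z => by
      have h : fs V z ∈ Set.range (fs V) := ⟨z, rfl⟩
      rwa [range_fs] at h
    obtain ⟨W, f₁, f₂, hp⟩ := exists_common (hm U₁ z₁) (e'' ▸ hm U₂ z₂)
    obtain ⟨w, hw₁, hw₂⟩ := F.exists_map_eq f₁ f₂ e'' hp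
    exact ⟨W, f₁, f₂, w, hw₁, hw₂⟩

/-- The glued scheme. -/
def total : Scheme.{u} := colimit F.diag

/-- The charts. -/
def ι (U : X.AffineZariskiSite) : F.diag.obj U ⟶ F.total := colimit.ι F.diag U

instance isOpenImmersion_ι (U : X.AffineZariskiSite) : IsOpenImmersion (F.ι U) := by
  delta ι total
  infer_instance

theorem w_ι {U V : X.AffineZariskiSite} (h : V ⟶ U) : F.diag.map h ≫ F.ι U = F.ι V := colimit.w _ _

theorem exists_ι (z : F.total) : ∃ (U : X.AffineZariskiSite) (w : F.diag.obj U), F.ι U w = z :=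
  Scheme.IsLocallyDirected.ι_jointly_surjective F.diag z

/-- The cocone giving the reduction. -/
def inclCocone : Cocone (Scheme.AffineZariskiSite.toOpensFunctor X ⋙ X.presheaf.rightOp ⋙ Scheme.Spec) where
  pt := F.total
  ι :=
    { app := fun U => F.incl U ≫ F.ι U
      naturality := fun V U h => by
        show Spec.map (oMap h) ≫ F.incl U ≫ F.ι U = (F.incl V ≫ F.ι V) ≫ 𝟙 _
        rw [Category.comp_id, ← Category.assoc, incl_nat, Category.assoc, w_ι] }

/-- The reduction. -/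
def i : X ⟶ F.total := (Scheme.AffineZariskiSite.isColimitCocone X).desc F.inclCocone

theorem fs_i (U : X.AffineZariskiSite) : fs U ≫ F.i = F.incl U ≫ F.ι U :=
  (Scheme.AffineZariskiSite.isColimitCocone X).fac F.inclCocone U

theorem hom_ext_fs {Y : Scheme.{u}} {a b : X ⟶ Y} (h : ∀ U, fs U ≫ a = fs U ≫ b) : a = b :=
  (Scheme.AffineZariskiSite.isColimitCocone X).hom_ext h

theorem exists_fs (p : X) : ∃ (U : X.AffineZariskiSite) (z : Spec Γ(X, U.toOpens)), fs U z = p := by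
  obtain ⟨_, ⟨V, hV, rfl⟩, hp, -⟩ := X.isBasis_affineOpens.exists_subset_of_mem_open (Set.mem_univ p) isOpen_univ
  refine ⟨⟨V, hV⟩, ?_⟩
  rw [← Set.mem_range, range_fs]
  exact hp

/-- The affine open over an affine open. -/
def W (U : X.AffineZariskiSite) : F.total.Opens := (F.ι U).opensRange

theorem isAffineOpen_W (U : X.AffineZariskiSite) : IsAffineOpen (F.W U) :=
  haveI : IsAffine (F.diag.obj U) := inferInstanceAs (IsAffine (Spec (F.R.obj (op U))))
  isAffineOpen_opensRange (F.ι U)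

theorem W_mono {U V : X.AffineZariskiSite} (h : V ⟶ U) : F.W V ≤ F.W U := by
  rintro _ ⟨z, rfl⟩
  exact ⟨F.diag.map h z, by rw [← Scheme.Hom.comp_apply, w_ι]⟩

theorem preimage_W (U : X.AffineZariskiSite) : F.i ⁻¹ᵁ F.W U = U.toOpens := by
  ext p
  show F.i p ∈ Set.range (F.ι U) ↔ p ∈ U.toOpens
  constructor
  · rintro ⟨w, hw⟩
    obtain ⟨V, z, rfl⟩ := exists_fs p
    rw [← Scheme.Hom.comp_apply, fs_i, Scheme.Hom.comp_apply] at hw
    obtain ⟨W, fU, fV, y, -, hyV⟩ := (Scheme.IsLocallyDirected.ι_eq_ι_iff F.diag).mp hw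
    obtain ⟨z', rfl⟩ := (F.incl_bijective W).2 y
    rw [← Scheme.Hom.comp_apply, ← incl_nat, Scheme.Hom.comp_apply] at hyV
    rw [← (F.incl_bijective V).1 hyV, ← Scheme.Hom.comp_apply, fromSpec_nat]
    have h : fs W z' ∈ Set.range (fs W) := ⟨z', rfl⟩
    rw [range_fs] at h
    exact Scheme.AffineZariskiSite.toOpens_mono fU.le h
  · intro hp
    obtain ⟨z, rfl⟩ : ∃ z, fs U z = p := by
      rw [← Set.mem_range, range_fs]
      exact hp
    exact ⟨F.incl U z, by rw [← Scheme.Hom.comp_apply, ← fs_i, Scheme.Hom.comp_apply]⟩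

theorem surjective_i : Function.Surjective F.i := fun y => by
  obtain ⟨U, w, rfl⟩ := F.exists_ι y
  obtain ⟨z, rfl⟩ := (F.incl_bijective U).2 w
  exact ⟨fs U z, by rw [← Scheme.Hom.comp_apply, fs_i, Scheme.Hom.comp_apply]⟩

theorem isPullback_fs (U : X.AffineZariskiSite) : IsPullback (F.incl U) (fs U) (F.ι U) F.i := by
  refine IsOpenImmersion.isPullback _ _ _ _ (F.fs_i U) ?_
  show F.i ⁻¹ᵁ F.W U = _
  rw [preimage_W]
  exact (Opens.ext (range_fs U)).symm

instance isClosedImmersion_i : IsClosedImmersion F.i := by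
  refine IsZariskiLocalAtTarget.of_openCover (P := @IsClosedImmersion) (Scheme.IsLocallyDirected.openCover F.diag) fun U => ?_
  show IsClosedImmersion (pullback.snd F.i (F.ι U))
  rw [← (F.isPullback_fs U).flip.isoPullback_inv_snd]
  infer_instance

theorem iSup_W : ⨆ U, F.W U = ⊤ := eq_top_iff.2 fun z _ => by
  obtain ⟨U, w, rfl⟩ := F.exists_ι z
  exact Opens.mem_iSup.2 ⟨U, w, rfl⟩

/-- The functions on a chart. -/
def κ (U : X.AffineZariskiSite) : Γ(F.total, F.W U) ⟶ F.R.obj (op U) :=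
  (F.ι U).appLE (F.W U) ⊤ (by intro z _; exact ⟨z, rfl⟩) ≫ (Scheme.ΓSpecIso (F.R.obj (op U))).hom

theorem κ_bijective (U : X.AffineZariskiSite) : Function.Bijective (F.κ U) := by
  haveI : IsIso ((F.ι U).app (F.W U)) := Scheme.Hom.isIso_app _ _ le_rfl
  have e : (⊤ : (F.diag.obj U).Opens) ≤ F.ι U ⁻¹ᵁ F.W U := by intro z _; exact ⟨z, rfl⟩
  haveI : IsIso ((F.ι U).appLE (F.W U) ⊤ e) := by
    rw [Scheme.Hom.appLE, show homOfLE e = eqToHom (top_le_iff.mp e).symm from Subsingleton.elim _ _]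
    infer_instance
  haveI : IsIso (F.κ U) := by unfold κ; infer_instance
  exact ConcreteCategory.bijective_of_isIso (F.κ U)

theorem κ_nat {U V : X.AffineZariskiSite} (h : V ⟶ U) :
    F.total.presheaf.map (homOfLE (F.W_mono h)).op ≫ F.κ V = F.κ U ≫ F.R.map h.op := by
  simp only [κ, Category.assoc]
  rw [← Scheme.ΓSpecIso_naturality, Scheme.Hom.map_appLE_assoc]
  simp only [← Category.assoc]
  congr 1
  rw [Scheme.Hom.appTop, Scheme.Hom.app_eq_appLE, Scheme.Hom.appLE_comp_appLE]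
  have key : ∀ (g : F.diag.obj V ⟶ F.total) (_ : g = F.ι V) (e : ⊤ ≤ g ⁻¹ᵁ F.W U) (e' : ⊤ ≤ F.ι V ⁻¹ᵁ F.W U),
      g.appLE (F.W U) ⊤ e = (F.ι V).appLE (F.W U) ⊤ e' := by
    rintro _ rfl e e'; rfl
  exact (key _ (F.w_ι h) _ _).symm

theorem specMap_appLE {R S : CommRingCat.{u}} (f : R ⟶ S) (e : (⊤ : (Spec S).Opens) ≤ Spec.map f ⁻¹ᵁ ⊤) :
    (Spec.map f).appLE ⊤ ⊤ e = (Scheme.ΓSpecIso R).hom ≫ f ≫ (Scheme.ΓSpecIso S).inv := by
  rw [← Category.assoc, ← Scheme.ΓSpecIso_naturality, Category.assoc, Iso.hom_inv_id, Category.comp_id,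
    Scheme.Hom.appTop, Scheme.Hom.app_eq_appLE]
  rfl

theorem i_κ (U : X.AffineZariskiSite) :
    F.i.appLE (F.W U) U.toOpens (F.preimage_W U).ge = F.κ U ≫ F.π.app (op U) := by
  have hf : ∀ (e : (⊤ : (Spec Γ(X, U.toOpens)).Opens) ≤ fs U ⁻¹ᵁ U.toOpens),
      (fs U).appLE U.toOpens ⊤ e = (Scheme.ΓSpecIso Γ(X, U.toOpens)).inv := fun e => by
    rw [Scheme.Hom.appLE, IsAffineOpen.fromSpec_app_self, Category.assoc, ← Functor.map_comp]
    exact (congrArg (_ ≫ ·) ((congrArg (Spec Γ(X, U.toOpens)).presheaf.map (Subsingleton.elim _ (𝟙 _))).trans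
      ((Spec Γ(X, U.toOpens)).presheaf.map_id _))).trans (Category.comp_id _)
  have e₀ : (⊤ : (Spec Γ(X, U.toOpens)).Opens) ≤ fs U ⁻¹ᵁ U.toOpens := fun z _ => by
    have : fs U z ∈ Set.range (fs U) := ⟨z, rfl⟩
    rwa [range_fs] at this
  have e₁ : (⊤ : (F.diag.obj U).Opens) ≤ F.ι U ⁻¹ᵁ F.W U := by intro z _; exact ⟨z, rfl⟩
  have key : ∀ (g g' : Spec Γ(X, U.toOpens) ⟶ F.total) (_ : g = g') (e : ⊤ ≤ g ⁻¹ᵁ F.W U) (e' : ⊤ ≤ g' ⁻¹ᵁ F.W U),
      g.appLE (F.W U) ⊤ e = g'.appLE (F.W U) ⊤ e' := by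
    rintro g _ rfl e e'; rfl
  have h1 := key (fs U ≫ F.i) (F.incl U ≫ F.ι U) (F.fs_i U)
    (by rw [Scheme.Hom.comp_preimage, preimage_W]; exact e₀) (by rw [Scheme.Hom.comp_preimage]; exact (fun z _ => e₁ trivial))
  rw [← Scheme.Hom.appLE_comp_appLE (fs U) F.i (F.W U) U.toOpens ⊤ (F.preimage_W U).ge e₀,
    ← Scheme.Hom.appLE_comp_appLE (F.incl U) (F.ι U) (F.W U) ⊤ ⊤ e₁ le_top, hf] at h1
  rw [← cancel_mono (Scheme.ΓSpecIso Γ(X, U.toOpens)).inv, h1]
  simp only [κ, Category.assoc]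
  congr 1
  exact specMap_appLE _ _

theorem mem_ker_iff (U : X.AffineZariskiSite) (x : Γ(F.total, F.W U)) :
    F.i.app (F.W U) x = 0 ↔ F.π.app (op U) (F.κ U x) = 0 := by
  have key : ∀ (V : X.Opens) (e : V ≤ F.i ⁻¹ᵁ F.W U), F.i ⁻¹ᵁ F.W U = V →
      (F.i.app (F.W U) x = 0 ↔ F.i.appLE (F.W U) V e x = 0) := by
    rintro _ e rfl
    rw [Scheme.Hom.app_eq_appLE]
  rw [key _ (F.preimage_W U).ge (F.preimage_W U), F.i_κ U]
  rfl

theorem ker_sq : F.i.ker ^ 2 = ⊥ := by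
  refine Scheme.IdealSheafData.ext_of_iSup_eq_top
    (fun U : X.AffineZariskiSite => (⟨F.W U, F.isAffineOpen_W U⟩ : F.total.affineOpens)) F.iSup_W fun U => ?_
  rw [Scheme.IdealSheafData.ideal_pow, Pi.pow_apply, pow_two, Scheme.Hom.ker_apply]
  refine le_bot_iff.1 (Ideal.mul_le.2 fun a ha b hb => (Submodule.mem_bot _).2 ((F.κ_bijective U).1 ?_))
  rw [map_mul, map_zero]
  exact F.sq _ _ _ ((F.mem_ker_iff U a).1 (RingHom.mem_ker.1 ha)) ((F.mem_ker_iff U b).1 (RingHom.mem_ker.1 hb))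

end SqFam

end Groth.Agent.RibbonExistLib
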