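import Groth.Agent.RibbonExistLib.Cotangent
import Groth.Agent.ParaFLib.Stalk
import Groth.Agent.InvExt.Main
import Mathlib.AlgebraicGeometry.Morphisms.FiniteType

/-! The thickening attached to an extension is a ribbon. -/

set_option autoImplicit false
set_option backward.isDefEq.respectTransparency false
set_option linter.style.haveILetI false
set_option linter.unusedVariables false
set_option maxHeartbeats 1000000

universe u

open CategoryTheory CategoryTheory.Limits AlgebraicGeometry TopologicalSpace Opposite TrivSqZeroExt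
open Groth.Agent.LocHilbGlueLib Groth.Agent.OmegaUnivLib

noncomputable section

namespace Groth.Agent.RibbonExistLib

namespace ExtData

variable {k : Type u} [Field k] {D : Scheme.{u}} {pD : D ⟶ Spec (CommRingCat.of k)} (G : ExtData pD)

theorem exists_small (hL : PicF.IsInvertible G.L) (p : D) :
    ∃ U : D.AffineZariskiSite, p ∈ U.1 ∧
      ∃ e : Γ(G.L, U.1), Function.Bijective fun r : Γ(D, U.1) => r • e := by
  obtain ⟨W, e, hxW, he⟩ := ParaFLib.exists_gen_nhd hL p
  obtain ⟨U, hpU, hU⟩ := exists_site hxW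
  exact ⟨U, hpU, _, he U.1 hU⟩

theorem exists_eq_mul_inL {U : D.AffineZariskiSite} {e : Γ(G.L, U.1)}
    (he : Function.Bijective fun r : Γ(D, U.1) => r • e) (y : G.Sub U.1) (hy : y.1.fst = 0) :
    ∃ b : G.Sub U.1, y = b * G.inL U.1 e := by
  obtain ⟨l, rfl⟩ := G.exists_inL y hy
  obtain ⟨r, rfl⟩ := he.2 l
  obtain ⟨b, rfl⟩ := G.exists_lift U.2 r
  exact ⟨b, (G.mul_inL b e).symm⟩

theorem isRibbon [IsReduced D] (hL : PicF.IsInvertible G.L) : MultCurve.IsRibbon G.i := by
  refine ⟨⟨inferInstance, G.fam.ker_sq, fun x => ?_⟩, inferInstance⟩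
  obtain ⟨p, rfl⟩ := G.fam.surjective_i x
  obtain ⟨U, hpU, e, he⟩ := G.exists_small hL p
  obtain ⟨z, hz⟩ := G.exists_κE U (G.inL U.1 e)
  have hz' : G.fam.κ U z = G.inL U.1 e := Subtype.ext hz
  refine ⟨⟨G.fam.W U, G.fam.isAffineOpen_W U⟩, (G.fam.preimage_W U).ge hpU, z, ?_, fun a ha => ?_⟩
  · rw [Scheme.Hom.ker_apply]
    ext y
    rw [RingHom.mem_ker, Ideal.mem_span_singleton']
    refine ⟨fun hy => ?_, ?_⟩
    · obtain ⟨b, hb⟩ := G.exists_eq_mul_inL he (G.fam.κ U y) ((G.fam.mem_ker_iff U y).1 hy)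
      obtain ⟨b', rfl⟩ := (G.fam.κ_bijective U).2 b
      exact ⟨b', (G.fam.κ_bijective U).1 (by rw [map_mul, hz']; exact hb.symm)⟩
    · rintro ⟨b, rfl⟩
      have h0 : G.i.app (G.fam.W U) z = 0 := (G.fam.mem_ker_iff U z).2 (by
        rw [hz']; show (G.inL U.1 e).1.fst = 0; exact fst_inr _ _)
      show G.i.app (G.fam.W U) (b * z) = 0
      rw [map_mul, h0, mul_zero]
  · rw [pow_one] at ha
    have h := congrArg (G.fam.κ U) ha
    rw [map_mul, hz', map_zero] at h
    rw [Scheme.Hom.ker_apply, RingHom.mem_ker]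
    refine (G.fam.mem_ker_iff U a).2 ?_
    show (G.fam.κ U a).1.fst = 0
    refine he.1 ?_
    show (G.fam.κ U a).1.fst • e = (0 : Γ(D, U.1)) • e
    rw [zero_smul]
    refine G.inL_injective U.1 ?_
    rw [← mul_inL, inL_zero]
    exact h

theorem finiteType_str [LocallyOfFiniteType pD] {U : D.AffineZariskiSite} {e : Γ(G.L, U.1)}
    (he : Function.Bijective fun r : Γ(D, U.1) => r • e) : (G.str U.1).hom.FiniteType := by
  have hft : (algR pD U.1).hom.FiniteType :=
    RingHom.FiniteType.comp (LocallyOfFiniteType.finiteType_appLE pD (isAffineOpen_top _) U.2 le_top)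
      (RingHom.FiniteType.of_surjective _ (ConcreteCategory.bijective_of_isIso (Scheme.ΓSpecIso (CommRingCat.of k)).inv).2)
  letI := (algR pD U.1).hom.toAlgebra
  letI := (G.str U.1).hom.toAlgebra
  haveI : Algebra.FiniteType k Γ(D, U.1) := hft
  obtain ⟨s, hs⟩ := ‹Algebra.FiniteType k Γ(D, U.1)›.out
  show Algebra.FiniteType k (G.Sub U.1)
  choose g hg using fun a => G.exists_lift U.2 a
  let π : G.Sub U.1 →ₐ[k] Γ(D, U.1) :=
    { G.fstS U.1 with commutes' := fun r => rfl }
  classical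
  let z := G.inL U.1 e
  let A : Subalgebra k (G.Sub U.1) := Algebra.adjoin k (insert z (g '' (s : Set Γ(D, U.1))))
  have hA : ∀ a : Γ(D, U.1), ∃ x ∈ A, x.1.fst = a := fun a => by
    have h1 : A.map π = ⊤ := by
      refine top_le_iff.1 (hs ▸ Algebra.adjoin_le fun b hb => ⟨g b, Algebra.subset_adjoin
        (Set.mem_insert_of_mem _ ⟨b, hb, rfl⟩), hg b⟩)
    obtain ⟨x, hx, hxa⟩ := h1.ge (Algebra.mem_top (x := a))
    exact ⟨x, hx, hxa⟩
  have htop : A = ⊤ := top_le_iff.1 fun y _ => by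
    obtain ⟨x, hx, hxy⟩ := hA y.1.fst
    obtain ⟨b, hb⟩ := G.exists_eq_mul_inL he (y - x) (by
      show ((y - x : G.Sub U.1) : SplitRibLib.Ext0 G.E U.1).fst = 0
      rw [AddSubgroupClass.coe_sub, fst_sub, hxy, sub_self])
    obtain ⟨b₀, hb₀, hbb⟩ := hA b.1.fst
    have h2 : b * z = b₀ * z := by rw [mul_inL, mul_inL, hbb]
    rw [← add_sub_cancel x y, hb, h2]
    exact add_mem hx (mul_mem hb₀ (Algebra.subset_adjoin (Set.mem_insert _ _)))
  exact ⟨Subalgebra.fg_def.2 ⟨_, (s.finite_toSet.image g).insert z, htop⟩⟩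

theorem locallyOfFiniteType_pC [LocallyOfFiniteType pD] (hL : PicF.IsInvertible G.L) :
    LocallyOfFiniteType G.pC := by
  refine (IsZariskiLocalAtSource.iff_of_iSup_eq_top (P := @LocallyOfFiniteType)
    (fun U : {U : D.AffineZariskiSite // ∃ e : Γ(G.L, U.1), Function.Bijective fun r : Γ(D, U.1) => r • e} =>
      G.fam.W U.1) ?_).2 fun U => ?_
  · refine eq_top_iff.2 fun x _ => ?_
    obtain ⟨p, rfl⟩ := G.fam.surjective_i x
    obtain ⟨U, hpU, he⟩ := G.exists_small hL p
    exact Opens.mem_iSup.2 ⟨⟨U, he⟩, (G.fam.preimage_W U).ge hpU⟩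
  · obtain ⟨U, e, he⟩ := U
    show LocallyOfFiniteType ((G.fam.ι U).opensRange.ι ≫ G.pC)
    rw [← MorphismProperty.cancel_left_of_respectsIso @LocallyOfFiniteType (G.fam.ι U).isoOpensRange.hom,
      ← Category.assoc, Scheme.Hom.isoOpensRange_hom_ι, ι_pC]
    exact (HasRingHomProperty.Spec_iff (P := @LocallyOfFiniteType)).mpr (G.finiteType_str he)

end ExtData

end Groth.Agent.RibbonExistLib
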